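import Groth.Agent.L15.LogLayer

/-! Pieces of a logarithmic λ-connection without flatness. -/

set_option autoImplicit false
set_option linter.unusedSectionVars false

noncomputable section

universe v u

open TensorProduct

namespace Groth.L28.LogPiece

variable {A : Type v} {B L E : Type u} [CommRing A] [CommRing B]
  [Algebra A B] [AddCommGroup L] [Module B L] [Module A L] [IsScalarTower A B L]
  [AddCommGroup E] [Module B E] [Module A E] [IsScalarTower A B E]
  {n : ℕ} (lam : B) (ι : KaehlerDifferential A B →ₗ[B] L) (nabla : E →ₗ[A] E ⊗[B] L)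

/-- Coordinates. -/
structure Fr where
  t : Fin n → B
  bΩ : Module.Basis (Fin n) B (KaehlerDifferential A B)
  ω : Module.Basis (Fin n) B L
  hbΩ : ∀ i, bΩ i = KaehlerDifferential.D A B (t i)
  hι : ∀ i, ι (KaehlerDifferential.D A B (t i)) = t i • ω i
  hc : Conn.IsLamConn (ι.compDer (KaehlerDifferential.D A B)) lam nabla

namespace Fr

variable {lam ι nabla} (F : Fr (n := n) lam ι nabla)

local notation "δ" => KaehlerDifferential.D A B

/-- The component. -/
abbrev c (i : Fin n) : E →ₗ[A] E := LogConn.comp nabla F.ω i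

/-- The piece. -/
abbrev P (I : Finset (Fin n)) : Submodule A E := LogConn.piece nabla F.ω F.t I

/-- The partial derivative. -/
def D (i : Fin n) (b : B) : B := F.bΩ.repr (δ b) i

theorem D_t (i j : Fin n) : F.D i (F.t j) = if i = j then 1 else 0 := by
  rw [D, ← F.hbΩ, Module.Basis.repr_self, Finsupp.single_apply]
  exact if_congr eq_comm rfl rfl

theorem D_prod (i : Fin n) (S : Finset (Fin n)) (hi : i ∉ S) : F.D i (∏ k ∈ S, F.t k) = 0 := by
  classical
  induction S using Finset.induction_on with
  | empty => simp [D]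
  | @insert a S ha ih =>
    simp only [Finset.mem_insert, not_or] at hi
    have h := ih hi.2
    simp only [D] at h ⊢
    rw [Finset.prod_insert ha, Derivation.leibniz, map_add, map_smul, map_smul, Finsupp.add_apply, Finsupp.smul_apply,
      Finsupp.smul_apply, h]
    have := F.D_t i a
    simp only [D, if_neg hi.1] at this
    simp [this]

theorem coord_ι (i : Fin n) (η : KaehlerDifferential A B) : F.ω.coord i (ι η) = F.bΩ.repr η i * F.t i := by
  conv_lhs => rw [← F.bΩ.sum_repr η]
  simp only [map_sum, map_smul, F.hbΩ, F.hι, smul_eq_mul, Module.Basis.coord_apply, Module.Basis.repr_self,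
    Finsupp.single_apply, mul_ite, mul_one, mul_zero,
    Finset.sum_ite_eq', Finset.mem_univ, if_true]

theorem c_smul (i : Fin n) (b : B) (e : E) : F.c i (b • e) = b • F.c i e + (lam * F.D i b) • F.t i • e := by
  simp only [c, Groth.L15.LogLayer.comp_eq, F.hc b e, map_add, map_smul, TensorProduct.map_tmul, LinearMap.id_apply,
    TensorProduct.rid_tmul]
  change _ + lam • F.ω.coord i (ι (δ b)) • e = _
  rw [show F.ω.coord i (ι (δ b)) = F.D i b * F.t i from F.coord_ι i (δ b)]
  simp [smul_smul, mul_assoc]

theorem compProd_insert {i : Fin n} {J : Finset (Fin n)} (hlt : ∀ j ∈ J, i < j) (e : E) :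
    LogConn.compProd nabla F.ω (insert i J) e = F.c i (LogConn.compProd nabla F.ω J e) := by
  have h : (insert i J).sort (· ≤ ·) = i :: J.sort (· ≤ ·) :=
    Finset.sort_insert _ (fun b hb => (hlt b hb).le) (fun h => lt_irrefl i (hlt i h))
  show (((insert i J).sort (· ≤ ·)).foldr _ LinearMap.id) e = _
  rw [h]
  rfl

theorem gen_mem {I J : Finset (Fin n)} (hJ : J ⊆ I) (e : E) :
    (∏ k ∈ I \ J, F.t k) • LogConn.compProd nabla F.ω J e ∈ F.P I :=
  Submodule.mem_iSup_of_mem J (Submodule.mem_iSup_of_mem (Finset.mem_powerset.2 hJ) ⟨e, rfl⟩)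

theorem P_le {I : Finset (Fin n)} (S : Submodule A E)
    (h : ∀ J ⊆ I, ∀ e : E, (∏ k ∈ I \ J, F.t k) • LogConn.compProd nabla F.ω J e ∈ S) : F.P I ≤ S :=
  iSup₂_le fun J hJ => by
    rintro _ ⟨e, rfl⟩
    exact h J (Finset.mem_powerset.1 hJ) e

theorem step_c {I J : Finset (Fin n)} {i : Fin n} (hlt : ∀ j ∈ I, i < j) (hJ : J ⊆ I) (e : E) :
    F.c i ((∏ k ∈ I \ J, F.t k) • LogConn.compProd nabla F.ω J e) =
      (∏ k ∈ insert i I \ insert i J, F.t k) • LogConn.compProd nabla F.ω (insert i J) e := by
  have hi : i ∉ I := fun h => lt_irrefl i (hlt i h)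
  have hs : insert i I \ insert i J = I \ J := by
    ext k; simp only [Finset.mem_sdiff, Finset.mem_insert]
    constructor
    · rintro ⟨h1 | h1, h2⟩
      · exact absurd (Or.inl h1) h2
      · exact ⟨h1, fun h => h2 (Or.inr h)⟩
    · rintro ⟨h1, h2⟩
      exact ⟨Or.inr h1, fun h => h.elim (fun h => hi (h ▸ h1)) h2⟩
  rw [c_smul, F.D_prod i _ (fun h => hi (Finset.mem_sdiff.1 h).1), mul_zero, zero_smul, add_zero, hs,
    F.compProd_insert fun j hj => hlt j (hJ hj)]

theorem step_t {I J : Finset (Fin n)} {i : Fin n} (hi : i ∉ I) (hJ : J ⊆ I) (e : E) :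
    F.t i • (∏ k ∈ I \ J, F.t k) • LogConn.compProd nabla F.ω J e =
      (∏ k ∈ insert i I \ J, F.t k) • LogConn.compProd nabla F.ω J e := by
  rw [smul_smul, ← Finset.prod_insert (fun h => hi (Finset.mem_sdiff.1 h).1),
    ← Finset.insert_sdiff_of_notMem _ (fun h => hi (hJ h))]

theorem rec_le {I : Finset (Fin n)} {i : Fin n} (hlt : ∀ j ∈ I, i < j) (S : Submodule A E)
    (h1 : ∀ z ∈ F.P I, F.c i z ∈ S) (h2 : ∀ z ∈ F.P I, F.t i • z ∈ S) : F.P (insert i I) ≤ S := by
  have hi : i ∉ I := fun h => lt_irrefl i (hlt i h)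
  refine F.P_le S fun J hJ e => ?_
  by_cases hiJ : i ∈ J
  · have hJ' : J.erase i ⊆ I := fun k hk => by
      obtain ⟨h, h'⟩ := Finset.mem_erase.1 hk
      exact (Finset.mem_insert.1 (hJ h')).resolve_left h
    have := h1 _ (F.gen_mem hJ' e)
    rwa [F.step_c hlt hJ', Finset.insert_erase hiJ] at this
  · have hJ' : J ⊆ I := fun k hk => (Finset.mem_insert.1 (hJ hk)).resolve_left (fun h => hiJ (h ▸ hk))
    have := h2 _ (F.gen_mem hJ' e)
    rwa [F.step_t hi hJ'] at this

theorem c_mem {I : Finset (Fin n)} {i : Fin n} (hlt : ∀ j ∈ I, i < j) {x : E} (hx : x ∈ F.P I) :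
    F.c i x ∈ F.P (insert i I) := by
  refine F.P_le ((F.P (insert i I)).comap (F.c i)) (fun J hJ e => ?_) hx
  rw [Submodule.mem_comap, F.step_c hlt hJ]
  exact F.gen_mem (Finset.insert_subset_insert i hJ) e

theorem t_mem {I : Finset (Fin n)} {i : Fin n} (hi : i ∉ I) {x : E} (hx : x ∈ F.P I) :
    F.t i • x ∈ F.P (insert i I) := by
  refine F.P_le ((F.P (insert i I)).comap ((LinearMap.lsmul B E (F.t i)).restrictScalars A)) (fun J hJ e => ?_) hx
  show F.t i • ((∏ k ∈ I \ J, F.t k) • LogConn.compProd nabla F.ω J e) ∈ F.P (insert i I)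
  rw [F.step_t hi hJ]
  exact F.gen_mem (hJ.trans (Finset.subset_insert i I)) e

theorem smul_mem (I : Finset (Fin n)) (b : B) (x : E) (hx : x ∈ F.P I) : b • x ∈ F.P I := by
  induction I using Finset.induction_on_min generalizing b x with
  | empty => simpa [LogConn.compProd] using F.gen_mem (I := ∅) (J := ∅) subset_rfl (b • x)
  | insert i I hlt ih =>
    have hi : i ∉ I := fun h => lt_irrefl i (hlt i h)
    refine F.rec_le hlt ((F.P (insert i I)).comap ((LinearMap.lsmul B E b).restrictScalars A)) (fun z hz => ?_)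
      (fun z hz => ?_) hx
    · show b • F.c i z ∈ F.P (insert i I)
      rw [show b • F.c i z = F.c i (b • z) - F.t i • ((lam * F.D i b) • z) by
        rw [F.c_smul, smul_comm (F.t i), add_sub_cancel_right]]
      exact sub_mem (F.c_mem hlt (ih b z hz)) (F.t_mem hi (ih _ z hz))
    · show b • F.t i • z ∈ F.P (insert i I)
      rw [smul_comm]
      exact F.t_mem hi (ih b z hz)

/-- The span of the generators. -/
def S {m : ℕ} (e : Fin m → E) (I : Finset (Fin n)) : Submodule B E :=
  Submodule.span B (⋃ J ∈ I.powerset, Set.range (fun k : Fin m =>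
    (∏ i ∈ I \ J, F.t i) • LogConn.compProd nabla F.ω J (e k)))

theorem S_gen {m : ℕ} (e : Fin m → E) {I J : Finset (Fin n)} (hJ : J ⊆ I) (k : Fin m) :
    (∏ i ∈ I \ J, F.t i) • LogConn.compProd nabla F.ω J (e k) ∈ F.S e I :=
  Submodule.subset_span (Set.mem_biUnion (Finset.mem_powerset.2 hJ) ⟨k, rfl⟩)

theorem S_eq {m : ℕ} (e : Fin m → E) (he : Submodule.span B (Set.range e) = ⊤) (I : Finset (Fin n)) :
    (F.S e I).restrictScalars A = F.P I := by
  refine le_antisymm (fun x hx => ?_) ?_
  · replace hx : x ∈ Submodule.span B (⋃ J ∈ I.powerset, Set.range (fun k : Fin m =>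
        (∏ i ∈ I \ J, F.t i) • LogConn.compProd nabla F.ω J (e k))) := hx
    induction hx using Submodule.span_induction with
    | mem x hx =>
      obtain ⟨J, hJ, k, rfl⟩ := Set.mem_iUnion₂.1 hx
      exact F.gen_mem (Finset.mem_powerset.1 hJ) _
    | zero => exact zero_mem _
    | add x y _ _ hx hy => exact add_mem hx hy
    | smul b x _ hx => exact F.smul_mem I b x hx
  · induction I using Finset.induction_on_min with
    | empty =>
      intro x _
      have hx : x ∈ Submodule.span B (Set.range e) := he ▸ Submodule.mem_top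
      show x ∈ F.S e ∅
      refine Submodule.span_le.2 ?_ hx
      rintro _ ⟨k, rfl⟩
      simpa [LogConn.compProd] using F.S_gen e (I := ∅) (J := ∅) subset_rfl k
    | insert i I hlt ih =>
      have hi : i ∉ I := fun h => lt_irrefl i (hlt i h)
      have ht : ∀ z ∈ F.S e I, F.t i • z ∈ F.S e (insert i I) := fun z hz => by
        induction hz using Submodule.span_induction with
        | mem x hx =>
          obtain ⟨J, hJ, k, rfl⟩ := Set.mem_iUnion₂.1 hx
          rw [F.step_t hi (Finset.mem_powerset.1 hJ)]
          exact F.S_gen e ((Finset.mem_powerset.1 hJ).trans (Finset.subset_insert i I)) k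
        | zero => rw [smul_zero]; exact zero_mem _
        | add x y _ _ hx hy => rw [smul_add]; exact add_mem hx hy
        | smul b x _ hx => rw [smul_comm]; exact Submodule.smul_mem _ b hx
      refine F.rec_le hlt _ (fun z hz => ?_) fun z hz => ht z (ih hz)
      show F.c i z ∈ F.S e (insert i I)
      have hz' : z ∈ Submodule.span B (⋃ J ∈ I.powerset, Set.range (fun k : Fin m =>
        (∏ i ∈ I \ J, F.t i) • LogConn.compProd nabla F.ω J (e k))) := ih hz
      clear hz
      induction hz' using Submodule.span_induction with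
      | mem x hx =>
        obtain ⟨J, hJ, k, rfl⟩ := Set.mem_iUnion₂.1 hx
        rw [F.step_c hlt (Finset.mem_powerset.1 hJ)]
        exact F.S_gen e (Finset.insert_subset_insert i (Finset.mem_powerset.1 hJ)) k
      | zero => rw [map_zero]; exact zero_mem _
      | add x y _ _ hx hy => rw [map_add]; exact add_mem hx hy
      | smul b x hx' hx =>
        rw [F.c_smul]
        exact add_mem (Submodule.smul_mem _ b hx) (Submodule.smul_mem _ _ (ht x hx'))

theorem span_gens_eq (p : ℕ) :
    (Submodule.span B (LogConn.gens nabla F.ω ι p)).restrictScalars A = LogConn.layer nabla F.ω F.t p := by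
  classical
  refine le_antisymm (fun x hx => ?_) (fun x hx => ?_)
  · simp only [LogConn.layer, Submodule.mem_iInf, Submodule.mem_comap, LinearMap.restrictScalars_apply]
    intro K
    replace hx : x ∈ Submodule.span B (LogConn.gens nabla F.ω ι p) := hx
    induction hx using Submodule.span_induction with
    | zero => rw [map_zero]; exact zero_mem _
    | add x y _ _ hx hy => rw [map_add]; exact add_mem hx hy
    | smul b x _ hx => rw [map_smul]; exact F.smul_mem _ b _ hx
    | mem x hx =>
      obtain ⟨I, hI, e, v, hv1, hv2, rfl⟩ := hx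
      let emb : ∀ k : Fin p, k.val < I.card → Fin n := fun k hk => I.orderEmbOfFin rfl ⟨k.val, hk⟩
      have hexp : (exteriorPower.ιMulti B p v) =
          ∑ f : Fin p → Fin n, (∏ k, F.ω.coord (f k) (v k)) • exteriorPower.ιMulti B p (fun k => F.ω (f k)) := by
        conv_lhs =>
          rw [show v = fun k => ∑ j, F.ω.coord j (v k) • F.ω j from funext fun k => (F.ω.sum_repr (v k)).symm]
        rw [← AlternatingMap.coe_multilinearMap, MultilinearMap.map_sum]
        exact Finset.sum_congr rfl fun f _ => MultilinearMap.map_smul_univ _ _ _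
      rw [Groth.L15.LogLayer.coordE_tmul, hexp, map_sum, Finset.sum_smul]
      refine Submodule.sum_mem _ fun f _ => ?_
      rw [map_smul, smul_eq_mul, mul_comm, mul_smul]
      rcases Groth.L15.LogLayer.coord_eq_zero_or F.ω p K f with h | ⟨hf, hK⟩
      · rw [h, zero_smul]; exact zero_mem _
      refine F.smul_mem _ _ _ ?_
      by_cases hhead : ∀ k (hk : k.val < I.card), f k = emb k hk
      swap
      · simp only [not_forall] at hhead
        obtain ⟨k, hk, hne⟩ := hhead
        rw [Finset.prod_eq_zero (Finset.mem_univ k), zero_smul]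
        · exact zero_mem _
        · rw [hv1 k hk, Module.Basis.coord_apply, Module.Basis.repr_self]
          exact Finsupp.single_eq_of_ne hne
      have hIK : I ⊆ (K : Finset (Fin n)) := fun i hi => by
        obtain ⟨a, rfl⟩ : i ∈ Set.range (I.orderEmbOfFin rfl) := by rw [Finset.range_orderEmbOfFin]; exact hi
        rw [← hK]
        exact Finset.mem_image.2 ⟨⟨a.val, lt_of_lt_of_le a.2 hI⟩, Finset.mem_univ _, hhead _ a.2⟩
      let T := Finset.univ.filter fun k : Fin p => I.card ≤ k.val
      have hT : T.image f = (K : Finset (Fin n)) \ I := by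
        ext i
        simp only [T, Finset.mem_image, Finset.mem_filter, Finset.mem_univ, true_and, Finset.mem_sdiff]
        constructor
        · rintro ⟨k, hk, rfl⟩
          refine ⟨by rw [← hK]; exact Finset.mem_image_of_mem f (Finset.mem_univ k), fun hm => ?_⟩
          obtain ⟨a, ha⟩ : f k ∈ Set.range (I.orderEmbOfFin rfl) := by rw [Finset.range_orderEmbOfFin]; exact hm
          have := hf ((hhead ⟨a.val, lt_of_lt_of_le a.2 hI⟩ a.2).trans ha)
          rw [← this] at hk
          exact absurd a.2 (not_lt.2 hk)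
        · rintro ⟨hiK, hiI⟩
          rw [← hK] at hiK
          obtain ⟨k, -, rfl⟩ := Finset.mem_image.1 hiK
          refine ⟨k, le_of_not_gt fun hk => hiI ?_, rfl⟩
          rw [hhead k hk]
          exact Finset.orderEmbOfFin_mem I rfl _
      have hdvd : ∀ k ∈ T, ∃ a, F.ω.coord (f k) (v k) = a * F.t (f k) := fun k hk => by
        obtain ⟨η, hη⟩ := hv2 k (Finset.mem_filter.1 hk).2
        exact ⟨_, by rw [← hη, F.coord_ι]⟩
      choose a ha using hdvd
      rw [← Finset.prod_mul_prod_compl T, ← Finset.prod_attach T, Finset.prod_congr rfl fun k _ => ha k.1 k.2,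
        Finset.prod_mul_distrib, Finset.prod_attach T (fun k => F.t (f k)), mul_assoc, mul_smul,
        mul_comm (∏ k ∈ T, F.t (f k)), mul_smul, ← Finset.prod_image (f := F.t) (g := f) hf.injOn, hT]
      exact F.smul_mem _ _ _ (F.smul_mem _ _ _ (F.gen_mem hIK e))
  · simp only [LogConn.layer, Submodule.mem_iInf, Submodule.mem_comap, LinearMap.restrictScalars_apply] at hx
    show x ∈ Submodule.span B (LogConn.gens nabla F.ω ι p)
    rw [Groth.L15.LogLayer.sum_coordE F.ω p x]
    refine Submodule.sum_mem _ fun K _ => ?_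
    refine F.P_le ((Submodule.span B (LogConn.gens nabla F.ω ι p)).restrictScalars A |>.comap
      (((TensorProduct.mk B E ↥(⋀[B]^p L)).flip (F.ω.exteriorPower p K)).restrictScalars A)) (fun J hJ e => ?_) (hx K)
    show ((∏ k ∈ (K : Finset (Fin n)) \ J, F.t k) • LogConn.compProd nabla F.ω J e) ⊗ₜ[B] F.ω.exteriorPower p K ∈
      Submodule.span B (LogConn.gens nabla F.ω ι p)
    have hJp : J.card ≤ p := (Finset.card_le_card hJ).trans_eq K.2
    have hcard : ((K : Finset (Fin n)) \ J).card = p - J.card := by
      rw [Finset.card_sdiff_of_subset hJ, K.2]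
    let f : Fin p → Fin n := fun k => if hk : k.val < J.card then J.orderEmbOfFin rfl ⟨k.val, hk⟩
      else ((K : Finset (Fin n)) \ J).orderEmbOfFin hcard ⟨k.val - J.card, by omega⟩
    have hfK : ∀ k, f k ∈ (K : Finset (Fin n)) := fun k => by
      simp only [f]; split_ifs
      · exact hJ (Finset.orderEmbOfFin_mem J rfl _)
      · exact (Finset.mem_sdiff.1 (Finset.orderEmbOfFin_mem _ hcard _)).1
    have hf : Function.Injective f := fun a b hab => by
      simp only [f] at hab
      split_ifs at hab with h1 h2 h2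
      · exact Fin.ext (by simpa using (J.orderEmbOfFin rfl).injective hab)
      · exact absurd (hab ▸ Finset.orderEmbOfFin_mem J rfl ⟨a.val, h1⟩)
          (Finset.mem_sdiff.1 (Finset.orderEmbOfFin_mem _ hcard _)).2
      · exact absurd (hab.symm ▸ Finset.orderEmbOfFin_mem J rfl ⟨b.val, h2⟩)
          (Finset.mem_sdiff.1 (Finset.orderEmbOfFin_mem _ hcard _)).2
      · have := congrArg Fin.val (((K : Finset (Fin n)) \ J).orderEmbOfFin hcard |>.injective hab)
        exact Fin.ext (by simp only at this; omega)
    let g := fun k => Set.powersetCard.ofFinEmbEquiv.symm K k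
    have hσ : ∀ k, ∃ j, g j = f k := fun k =>
      (Set.powersetCard.mem_range_ofFinEmbEquiv_symm_iff_mem K (f k)).2 (hfK k)
    choose σ hσ using hσ
    have hσb : Function.Bijective σ :=
      Finite.injective_iff_bijective.1 fun a b h => hf (by rw [← hσ a, ← hσ b, h])
    let T := Finset.univ.filter fun k : Fin p => J.card ≤ k.val
    have hT : T.image f = (K : Finset (Fin n)) \ J := by
      refine Finset.eq_of_subset_of_card_le (fun i hi => ?_) ?_
      · obtain ⟨k, hk, rfl⟩ := Finset.mem_image.1 hi
        simp only [f, dif_neg (not_lt.2 (Finset.mem_filter.1 hk).2)]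
        exact Finset.orderEmbOfFin_mem _ hcard _
      · rw [Finset.card_image_of_injective _ hf, hcard]
        have : T = (Finset.univ.filter fun k : Fin p => k.val < J.card)ᶜ := by
          ext k; simp [T]
        rw [this, Finset.card_compl, Fintype.card_fin]
        have : (Finset.univ.filter fun k : Fin p => k.val < J.card).card ≤ J.card := by
          refine (Finset.card_le_card_of_injOn (fun k => k.val) (fun k hk => ?_) Fin.val_injective.injOn).trans_eq
            (Finset.card_range J.card)
          simp only [Finset.mem_coe, Finset.mem_filter] at hk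
          simp [hk.2]
        omega
    let v : Fin p → L := fun k => if k ∈ T then ι (KaehlerDifferential.D A B (F.t (f k))) else F.ω (f k)
    have hgen : LogConn.compProd nabla F.ω J e ⊗ₜ[B] exteriorPower.ιMulti B p v ∈
        Submodule.span B (LogConn.gens nabla F.ω ι p) := by
      refine Submodule.subset_span ⟨J, hJp, e, v, fun k hk => ?_, fun k hk => ?_, rfl⟩
      · simp only [v, if_neg (show k ∉ T by simp [T]; omega), f, dif_pos hk]
      · simp only [v, if_pos (show k ∈ T by simp [T]; omega)]
        exact ⟨_, rfl⟩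
    have hv : exteriorPower.ιMulti B p v =
        (∏ k ∈ (K : Finset (Fin n)) \ J, F.t k) • (Equiv.Perm.sign (Equiv.ofBijective σ hσb) •
          F.ω.exteriorPower p K) := by
      have hsmul : v = fun k => (if k ∈ T then F.t (f k) else 1) • F.ω (f k) := funext fun k => by
        simp only [v]; split_ifs <;> simp [F.hι]
      rw [hsmul, AlternatingMap.map_smul_univ, Finset.prod_ite_mem, Finset.univ_inter,
        ← Finset.prod_image (f := F.t) (g := f) hf.injOn, hT, exteriorPower.basis_apply, exteriorPower.ιMulti_family,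
        ← AlternatingMap.map_perm]
      exact congrArg _ (congrArg _ (funext fun k => congrArg F.ω (hσ k).symm))
    rw [hv, TensorProduct.tmul_smul] at hgen
    rcases Int.units_eq_one_or (Equiv.Perm.sign (Equiv.ofBijective σ hσb)) with h | h <;> rw [h] at hgen
    · rw [← TensorProduct.smul_tmul']; simpa using hgen
    · rw [← TensorProduct.smul_tmul']; simpa [TensorProduct.tmul_neg] using neg_mem hgen

end Fr

end Groth.L28.LogPiece
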